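import Groth.Agent.FSAdic.Lifting
import Groth.Agent.FSAdic.Discrete
import Mathlib.RingTheory.Smooth.Locus

/-!
# Smoothness at a prime is tested on small extensions
-/

universe u

open IsLocalRing

namespace Groth.Agent.CAlgSmallExt

theorem isSmoothAt_iff_lift {R S : Type u} [CommRing R] [IsNoetherianRing R]
    [CommRing S] [Algebra R S] [Algebra.FiniteType R S] (q : Ideal S) [q.IsPrime] :
    Algebra.IsSmoothAt R q ↔
      ∀ (B' B : Type u) [CommRing B'] [CommRing B] [IsLocalRing B'] [IsLocalRing B]
        [IsArtinianRing B'] [IsArtinianRing B] [Algebra R B'] [Algebra R B] (π : B' →ₐ[R] B),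
        Function.Surjective π →
        (∃ t : B', RingHom.ker π.toRingHom = Ideal.span {t} ∧
          ∀ a ∈ IsLocalRing.maximalIdeal B', a * t = 0) →
        ∀ g : S →ₐ[R] B, (IsLocalRing.maximalIdeal B).comap g = q →
          ∃ g' : S →ₐ[R] B', π.comp g' = g := by
  let p := Ideal.comap (algebraMap R S) q
  let Ap := Localization.AtPrime p
  let Sq := Localization.AtPrime q
  let _ : Algebra Ap Sq := (Localization.localRingHom p q (algebraMap R S) rfl).toAlgebra
  have : IsScalarTower R Ap Sq := IsScalarTower.of_algebraMap_eq fun r => by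
    change _ = Localization.localRingHom p q (algebraMap R S) rfl _
    rw [Localization.localRingHom_to_map, ← IsScalarTower.algebraMap_apply R S Sq]
  have : IsLocalHom (algebraMap Ap Sq) := Localization.isLocalHom_localRingHom _ _ _ _
  have : Algebra.EssFiniteType S Sq := Algebra.EssFiniteType.of_isLocalization Sq q.primeCompl
  have : Algebra.EssFiniteType R Sq := Algebra.EssFiniteType.comp R S Sq
  have : Algebra.EssFiniteType Ap Sq := Algebra.EssFiniteType.of_comp R Ap Sq
  constructor
  · intro h B' B _ _ _ _ _ _ _ _ π hπ ht g hg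
    haveI : Algebra.FormallySmooth R Sq := h
    obtain ⟨t, ht, htm⟩ := ht
    have hu : ∀ s : q.primeCompl, IsUnit (g s.1) := fun s => by
      by_contra hs
      exact s.2 (hg.le ((mem_maximalIdeal _).2 hs))
    let G : Sq →ₐ[R] B := IsLocalization.liftAlgHom (M := q.primeCompl) (f := g) hu
    have htmem : t ∈ maximalIdeal B' := by
      refine (mem_maximalIdeal t).2 fun htu => ?_
      have : (1 : B') ∈ RingHom.ker π.toRingHom := by
        rw [ht, Ideal.span_singleton_eq_top.2 htu]; trivial
      exact one_ne_zero (α := B) (by rw [← map_one π]; exact this)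
    have hker : RingHom.ker π.toRingHom ^ 2 = ⊥ := by
      rw [ht, Ideal.span_singleton_pow, Ideal.span_singleton_eq_bot, pow_two]
      exact htm t htmem
    let e := Ideal.quotientKerAlgEquivOfSurjective hπ
    obtain ⟨v, hv⟩ := Algebra.FormallySmooth.exists_lift (R := R) (RingHom.ker π.toRingHom)
      ⟨2, hker⟩ (e.symm.toAlgHom.comp G)
    refine ⟨v.comp (IsScalarTower.toAlgHom R S Sq), AlgHom.ext fun x => ?_⟩
    have h1 := congrArg e (DFunLike.congr_fun hv (algebraMap S Sq x))
    have h2 : e ((e.symm.toAlgHom.comp G) (algebraMap S Sq x)) = g x := by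
      show e (e.symm (G (algebraMap S Sq x))) = g x
      rw [e.apply_symm_apply]
      exact IsLocalization.lift_eq _ x
    exact h1.trans h2
  · intro h
    have hSL : FSAdic.SmallLifting Ap Sq := by
      intro C _ _ _ _ J hJ2 hlen hnil hart _ u _ _
      haveI : IsNoetherianRing Sq :=
        IsLocalization.isNoetherianRing q.primeCompl _ (Algebra.FiniteType.isNoetherianRing R S)
      haveI := hart ‹_›
      haveI : IsSimpleModule C J := Module.length_eq_one_iff.1 hlen
      letI : Algebra R C := ((algebraMap Ap C).comp (algebraMap R Ap)).toAlgebra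
      haveI : IsScalarTower R Ap C := IsScalarTower.of_algebraMap_eq fun _ => rfl
      let π : C →ₐ[R] C ⧸ J := Ideal.Quotient.mkₐ R J
      have hJ0 : J ≠ ⊥ := fun e => by
        haveI := IsSimpleModule.nontrivial C J
        obtain ⟨x, hx⟩ := exists_ne (0 : J)
        exact hx (Subtype.ext (by simpa [e] using x.2))
      obtain ⟨t, htJ, ht0⟩ := Submodule.exists_mem_ne_zero_of_ne_bot hJ0
      have hmin : ∀ I : Ideal C, I ≤ J → I = ⊥ ∨ I = J := fun I hI => by
        rcases eq_bot_or_eq_top (Submodule.comap (Submodule.subtype J) I) with h | h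
        · left
          rw [eq_bot_iff]
          intro x hx
          have : (⟨x, hI hx⟩ : J) ∈ (Submodule.comap (Submodule.subtype J) I) := hx
          rw [h, Submodule.mem_bot] at this
          exact congrArg Subtype.val this
        · right
          refine le_antisymm hI fun x hx => ?_
          have : (⟨x, hx⟩ : J) ∈ (Submodule.comap (Submodule.subtype J) I) := h ▸ Submodule.mem_top
          exact this
      have hspan : Ideal.span {t} = J :=
        (hmin _ ((Ideal.span_singleton_le_iff_mem _).2 htJ)).resolve_left (by simpa using ht0)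
      have hkill : maximalIdeal C * J = ⊥ := by
        refine (hmin _ Ideal.mul_le_right).resolve_right fun e => ?_
        obtain ⟨n, hn⟩ := hnil
        have : ∀ k, maximalIdeal C ^ k * J = J := fun k => by
          induction k with
          | zero => simp
          | succ k ih => rw [pow_succ, mul_assoc, e, ih]
        exact hJ0 (by rw [← this n, hn, Ideal.bot_mul])
      obtain ⟨g', hg'⟩ := h C (C ⧸ J) π Ideal.Quotient.mk_surjective
        ⟨t, by rw [hspan]; exact Ideal.mk_ker,
          fun a ha => by rw [← Ideal.mem_bot, ← hkill]; exact Ideal.mul_mem_mul ha htJ⟩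
        ((u.restrictScalars R).comp (IsScalarTower.toAlgHom R S Sq)) (by
          ext x
          simp only [Ideal.mem_comap, AlgHom.comp_apply, IsScalarTower.coe_toAlgHom',
            AlgHom.restrictScalars_apply, mem_maximalIdeal, mem_nonunits_iff]
          rw [show IsUnit (u (algebraMap S Sq x)) ↔ IsUnit (algebraMap S Sq x) from
            isUnit_map_iff u.toRingHom _, IsLocalization.AtPrime.isUnit_to_map_iff Sq q x]
          exact not_not)
      have hu' : ∀ s : q.primeCompl, IsUnit (g' s.1) := fun s => by
        have h1 : IsUnit (Ideal.Quotient.mk J (g' s.1)) := by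
          rw [show Ideal.Quotient.mk J (g' s.1) = u (algebraMap S Sq s.1) from DFunLike.congr_fun hg' s.1]
          exact (IsLocalization.map_units Sq s).map u
        haveI : Nontrivial (C ⧸ J) := inferInstance
        by_contra hs
        have h2 : J ≤ maximalIdeal C := le_maximalIdeal fun e =>
          not_subsingleton (C ⧸ J) (Ideal.Quotient.subsingleton_iff.2 e)
        obtain ⟨c, hc⟩ := Ideal.Quotient.mk_surjective (↑h1.unit⁻¹ : C ⧸ J)
        have h3 : g' s.1 * c - 1 ∈ J := by
          rw [← Ideal.Quotient.eq, map_mul, hc, map_one, h1.mul_val_inv]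
        exact (maximalIdeal.isMaximal C).ne_top ((Ideal.eq_top_iff_one _).2 (by
          simpa using sub_mem (Ideal.mul_mem_right c _ ((mem_maximalIdeal _).2 hs)) (h2 h3)))
      let v₀ : Sq →ₐ[R] C := IsLocalization.liftAlgHom (M := q.primeCompl) (f := g') hu'
      have hv₀ : ∀ x, Ideal.Quotient.mk J (v₀ x) = u x := by
        have : (Ideal.Quotient.mk J).comp v₀.toRingHom = u.toRingHom :=
          IsLocalization.ringHom_ext q.primeCompl (RingHom.ext fun x => by
            show Ideal.Quotient.mk J (v₀ (algebraMap S Sq x)) = u (algebraMap S Sq x)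
            rw [show v₀ (algebraMap S Sq x) = g' x from IsLocalization.lift_eq _ x]
            exact DFunLike.congr_fun hg' x)
        exact fun x => RingHom.congr_fun this x
      have hcomm : ∀ a : Ap, v₀ (algebraMap Ap Sq a) = algebraMap Ap C a := by
        have : v₀.toRingHom.comp (algebraMap Ap Sq) = algebraMap Ap C :=
          IsLocalization.ringHom_ext p.primeCompl (RingHom.ext fun r => by
            show v₀ (algebraMap Ap Sq (algebraMap R Ap r)) = algebraMap Ap C (algebraMap R Ap r)
            rw [← IsScalarTower.algebraMap_apply, v₀.commutes, IsScalarTower.algebraMap_apply R Ap C])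
        exact fun a => RingHom.congr_fun this a
      exact ⟨{ v₀ with commutes' := hcomm }, AlgHom.ext hv₀⟩
    have hfs : Algebra.FormallySmooth Ap Sq :=
      FSAdicDiscrete.formallySmooth_of_isFormallySmoothAdic Ap Sq
        (FSAdic.isFormallySmoothAdic_of_smallLifting hSL _)
    have : Algebra.FormallySmooth R Ap := Algebra.FormallySmooth.of_isLocalization p.primeCompl
    exact Algebra.FormallySmooth.comp R Ap Sq

end Groth.Agent.CAlgSmallExt
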